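import Groth.Prelude.Def_LinTop
import Groth.Prelude.Def_W4stk3formalspacesTaut
import Mathlib.Topology.Algebra.LinearTopology
import Mathlib.Topology.Algebra.TopologicallyNilpotent
import Mathlib.Topology.Algebra.Ring.Ideal
import Mathlib.RingTheory.Jacobson.Ideal
import Mathlib.RingTheory.Nilpotent.Lemmas
import Mathlib.Topology.Algebra.Nonarchimedean.AdicTopology

/-!
# Linearly topologised rings: ideals, closures, ideals of definition
-/

set_option autoImplicit false

universe u v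

open Filter Topology

namespace Groth.Agent.LinTopLib

section Ring

variable {A : Type u} [CommRing A] [TopologicalSpace A] [IsTopologicalRing A]

theorem isOpen_of_le {I J : Ideal A} (hI : IsOpen (I : Set A)) (h : I ≤ J) : IsOpen (J : Set A) :=
  AddSubgroup.isOpen_mono (H₁ := I.toAddSubgroup) (H₂ := J.toAddSubgroup) h hI

theorem isClosed_of_isOpen {I : Ideal A} (hI : IsOpen (I : Set A)) : IsClosed (I : Set A) :=
  AddSubgroup.isClosed_of_isOpen I.toAddSubgroup hI

theorem isOpen_inf {I J : Ideal A} (hI : IsOpen (I : Set A)) (hJ : IsOpen (J : Set A)) :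
    IsOpen ((I ⊓ J : Ideal A) : Set A) := hI.inter hJ

theorem closure_mono' {I J : Ideal A} (h : I ≤ J) : I.closure ≤ J.closure := fun _ hx => closure_mono h hx

theorem le_closure (I : Ideal A) : I ≤ I.closure := fun _ hx => subset_closure hx

theorem closure_le {I J : Ideal A} (hJ : IsClosed (J : Set A)) (h : I ≤ J) : I.closure ≤ J :=
  fun _ hx => closure_minimal h hJ hx

theorem closure_le_of_isOpen {I J : Ideal A} (hJ : IsOpen (J : Set A)) (h : I ≤ J) : I.closure ≤ J :=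
  closure_le (isClosed_of_isOpen hJ) h

theorem isOpen_closure_of_le {I J : Ideal A} (hI : IsOpen (closure (I : Set A))) (h : I ≤ J.closure) :
    IsOpen (closure (J : Set A)) :=
  isOpen_of_le (I := I.closure) (J := J.closure) hI (closure_le isClosed_closure h)

theorem closure_mul_le (I J : Ideal A) : I.closure * J.closure ≤ (I * J).closure := by
  rw [Ideal.mul_le]
  intro r hr s hs
  exact map_mem_closure₂ continuous_mul hr hs fun a ha b hb => Ideal.mul_mem_mul ha hb

theorem closure_pow_le (I : Ideal A) : ∀ n : ℕ, I.closure ^ n ≤ (I ^ n).closure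
  | 0 => by simp only [pow_zero]; exact le_closure _
  | n + 1 => by
    rw [pow_succ, pow_succ]
    exact (Ideal.mul_mono_left (closure_pow_le I n)).trans (closure_mul_le _ _)

theorem closure_map_mul_le {B : Type v} [CommRing B] [TopologicalSpace B] [IsTopologicalRing B]
    (φ : A →+* B) (I : Ideal A) (n : ℕ) : (I.map φ).closure ^ n ≤ ((I ^ n).map φ).closure := by
  rw [Ideal.map_pow]
  exact closure_pow_le _ n

theorem isOpen_of_mem_nhds {J : Ideal A} (h : (J : Set A) ∈ 𝓝 (0 : A)) : IsOpen (J : Set A) :=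
  AddSubgroup.isOpen_of_mem_nhds J.toAddSubgroup (g := 0) h

variable [IsLinearTopology A A]

theorem exists_open_subset {U : Set A} (hU : U ∈ 𝓝 (0 : A)) : ∃ J : Ideal A, IsOpen (J : Set A) ∧ (J : Set A) ⊆ U := by
  obtain ⟨J, hJ, hJU⟩ := IsLinearTopology.hasBasis_open_ideal.mem_iff.mp hU
  exact ⟨J, hJ, hJU⟩

theorem isTopologicallyNilpotent_iff {x : A} :
    IsTopologicallyNilpotent x ↔ ∀ J : Ideal A, IsOpen (J : Set A) → ∃ n : ℕ, x ^ n ∈ J := by
  refine ⟨fun h J hJ => h.exists_pow_mem_of_mem_nhds (hJ.mem_nhds J.zero_mem), fun h => ?_⟩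
  refine IsLinearTopology.hasBasis_open_ideal.tendsto_right_iff.mpr fun J hJ => ?_
  obtain ⟨n, hn⟩ := h J hJ
  refine eventually_atTop.mpr ⟨n, fun m hm => ?_⟩
  show x ^ m ∈ J
  rw [← Nat.sub_add_cancel hm, pow_add]
  exact J.mul_mem_left _ hn

theorem isTopologicallyNilpotent_of_pow_mem {x : A} {I : Ideal A} (hI : ∀ f ∈ I, IsTopologicallyNilpotent f)
    {n : ℕ} (h : x ^ n ∈ I) : IsTopologicallyNilpotent x :=
  isTopologicallyNilpotent_iff.mpr fun J hJ => by
    obtain ⟨m, hm⟩ := isTopologicallyNilpotent_iff.mp (hI _ h) J hJ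
    exact ⟨n * m, by rwa [pow_mul]⟩

theorem mem_closure_iff_forall {I : Ideal A} {x : A} :
    x ∈ closure (I : Set A) ↔ ∀ J : Ideal A, IsOpen (J : Set A) → x ∈ I ⊔ J := by
  refine ⟨fun h J hJ => (closure_le_of_isOpen (isOpen_of_le hJ le_sup_right) le_sup_left : I.closure ≤ I ⊔ J) h,
    fun h => mem_closure_iff_nhds.mpr fun t ht => ?_⟩
  have h0 : (fun y => x + y) ⁻¹' t ∈ 𝓝 (0 : A) :=
    (continuous_const.add continuous_id).continuousAt.preimage_mem_nhds (by simpa using ht)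
  obtain ⟨J, hJ, hJt⟩ := exists_open_subset h0
  obtain ⟨a, ha, b, hb, rfl⟩ := Submodule.mem_sup.mp (h J hJ)
  exact ⟨a, by simpa using hJt (J.neg_mem hb), ha⟩

theorem isTopologicallyNilpotent_of_mem_closure {I : Ideal A} (hI : ∀ f ∈ I, IsTopologicallyNilpotent f) {x : A}
    (hx : x ∈ closure (I : Set A)) : IsTopologicallyNilpotent x := by
  refine isTopologicallyNilpotent_iff.mpr fun J hJ => ?_
  obtain ⟨a, ha, b, hb, rfl⟩ := Submodule.mem_sup.mp (mem_closure_iff_forall.mp hx J hJ)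
  obtain ⟨n, hn⟩ := isTopologicallyNilpotent_iff.mp (hI a ha) J hJ
  refine ⟨n, ?_⟩
  rw [← Ideal.Quotient.eq_zero_iff_mem, map_pow, map_add, Ideal.Quotient.eq_zero_iff_mem.mpr hb, add_zero,
    ← map_pow, Ideal.Quotient.eq_zero_iff_mem.mpr hn]

theorem isTopologicallyNilpotent_of_idealDef {I : Ideal A} (hI : LinTop.IsIdealOfDefinition A I) {x : A}
    (hx : x ∈ I) : IsTopologicallyNilpotent x :=
  isTopologicallyNilpotent_iff.mpr fun J hJ => by
    obtain ⟨n, -, hn⟩ := hI.2 _ (hJ.mem_nhds J.zero_mem)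
    exact ⟨n, hn (Ideal.pow_mem_pow hx n)⟩

end Ring

section IdealOfDefinition

variable {A : Type u} [CommRing A] [TopologicalSpace A]

theorem le_of_pow_le_prime {p I : Ideal A} [p.IsPrime] (hp : IsOpen (p : Set A)) (hI : LinTop.IsIdealOfDefinition A I) :
    I ≤ p := by
  obtain ⟨n, hn, h⟩ := hI.2 _ (hp.mem_nhds p.zero_mem)
  exact Ideal.IsPrime.le_of_pow_le (show I ^ n ≤ p from h)

theorem idealDef_of_pow_le [IsTopologicalRing A] {I J : Ideal A} (hI : LinTop.IsIdealOfDefinition A I)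
    (hJ : IsOpen (J : Set A)) {n : ℕ} (hn : 0 < n) (h : J ^ n ≤ I) : LinTop.IsIdealOfDefinition A J := by
  refine ⟨hJ, fun U hU => ?_⟩
  obtain ⟨m, hm, hmU⟩ := hI.2 U hU
  exact ⟨n * m, Nat.mul_pos hn hm, fun x hx => hmU (by rw [pow_mul] at hx; exact Ideal.pow_right_mono h m hx)⟩

theorem sup_pow_le {I K : Ideal A} {n : ℕ} (hn : 0 < n) (h : K ^ n ≤ I) : (I ⊔ K) ^ n ≤ I := by
  have hb : ((I ⊔ K) ^ n).map (Ideal.Quotient.mk I) = ⊥ := by
    rw [Ideal.map_pow, Ideal.map_sup, Ideal.map_quotient_self, bot_sup_eq, ← Ideal.map_pow, ← le_bot_iff,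
      Ideal.map_le_iff_le_comap, ← RingHom.ker_eq_comap_bot, Ideal.mk_ker]
    exact h
  rwa [← le_bot_iff, Ideal.map_le_iff_le_comap, ← RingHom.ker_eq_comap_bot, Ideal.mk_ker] at hb

theorem idealDef_sup [IsTopologicalRing A] {I K : Ideal A} (hI : LinTop.IsIdealOfDefinition A I) {n : ℕ}
    (hn : 0 < n) (h : K ^ n ≤ I) : LinTop.IsIdealOfDefinition A (I ⊔ K) :=
  idealDef_of_pow_le hI (AddSubgroup.isOpen_mono (H₁ := I.toAddSubgroup) (H₂ := (I ⊔ K).toAddSubgroup)
    (le_sup_left (b := K)) hI.1) hn (sup_pow_le hn h)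

theorem idealDef_sup_span [IsTopologicalRing A] {I : Ideal A} (hI : LinTop.IsIdealOfDefinition A I) {x : A} {n : ℕ}
    (h : x ^ n ∈ I) : LinTop.IsIdealOfDefinition A (I ⊔ Ideal.span {x}) :=
  idealDef_sup hI (Nat.succ_pos n) (by
    rw [Ideal.span_singleton_pow, Ideal.span_singleton_le_iff_mem, pow_succ]
    exact I.mul_mem_right _ h)

theorem exists_pow_le {I K : Ideal A} (hI : LinTop.IsIdealOfDefinition A I) (hK : IsOpen (K : Set A)) :
    ∃ n : ℕ, 0 < n ∧ I ^ n ≤ K := hI.2 _ (hK.mem_nhds K.zero_mem)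

theorem isAdic_idealDef [IsTopologicalRing A] {J : Ideal A} (hJ : IsAdic J) : LinTop.IsIdealOfDefinition A J := by
  obtain ⟨h1, h2⟩ := isAdic_iff.mp hJ
  refine ⟨by simpa using h1 1, fun U hU => ?_⟩
  obtain ⟨n, hn⟩ := h2 U hU
  exact ⟨n + 1, Nat.succ_pos n, fun x hx => hn (Ideal.pow_le_pow_right (Nat.le_succ n) hx)⟩

theorem isLinearTopology_of_isAdic {J : Ideal A} (hJ : IsAdic J) : IsLinearTopology A A := by
  have h : ‹TopologicalSpace A› = J.adicTopology := hJ
  subst h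
  exact J.isLinearTopology

end IdealOfDefinition

end Groth.Agent.LinTopLib
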