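import Groth.Agent.LinTopLib.Basic
import Mathlib.Topology.Algebra.InfiniteSum.Nonarchimedean
import Mathlib.Topology.Algebra.InfiniteSum.Ring
import Mathlib.Topology.Algebra.InfiniteSum.NatInt
import Mathlib.RingTheory.Finiteness.Ideal
import Mathlib.RingTheory.Ideal.Operations
import Mathlib.RingTheory.AdicCompletion.Basic

/-!
# Complete linearly topologised rings
-/

set_option autoImplicit false

universe u

open Filter Topology

namespace Groth.Agent.LinTopLib

variable {A : Type u} [CommRing A] [UniformSpace A] [IsUniformAddGroup A] [IsTopologicalRing A]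
  [IsLinearTopology A A] [T2Space A] [CompleteSpace A]

instance (priority := 90) nonarchimedeanAddGroup : NonarchimedeanAddGroup A where
  is_nonarchimedean U hU := by
    obtain ⟨J, hJ, hJU⟩ := exists_open_subset hU
    exact ⟨⟨J.toAddSubgroup, hJ⟩, hJU⟩

theorem summable_of_tendsto {f : ℕ → A} (h : Tendsto f atTop (𝓝 0)) : Summable f :=
  NonarchimedeanAddGroup.summable_of_tendsto_cofinite_zero (by rwa [Nat.cofinite_eq_atTop])

omit [IsUniformAddGroup A] [T2Space A] [CompleteSpace A] in
theorem tendsto_of_mem_pow {I : Ideal A} (hbasis : ∀ U ∈ 𝓝 (0 : A), ∃ n : ℕ, ((I ^ n : Ideal A) : Set A) ⊆ U)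
    {f : ℕ → A} {n : ℕ} (hf : ∀ k, f k ∈ I ^ (k - n)) : Tendsto f atTop (𝓝 0) :=
  tendsto_def.mpr fun U hU => by
    obtain ⟨m, hm⟩ := hbasis U hU
    exact eventually_atTop.mpr ⟨m + n, fun k hk => hm (Ideal.pow_le_pow_right (by omega) (hf k))⟩

/-- A convergent series with terms in growing powers of a finitely generated ideal lies in the power. -/
theorem mem_pow_of_series {I : Ideal A} (hfg : I.FG)
    (hbasis : ∀ U ∈ 𝓝 (0 : A), ∃ n : ℕ, ((I ^ n : Ideal A) : Set A) ⊆ U) {n : ℕ} {x : A} (d : ℕ → A)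
    (hd : ∀ k, d k ∈ I ^ (n + k)) (hx : Tendsto (fun N => ∑ k ∈ Finset.range N, d k) atTop (𝓝 x)) :
    x ∈ I ^ n := by
  obtain ⟨s, hs⟩ := hfg.pow (n := n)
  let g : s → A := fun i => i.1
  have hg : Submodule.span A (Set.range g) = I ^ n := by
    rw [← hs]
    congr 1
    ext y
    simp [g]
  have hc : ∀ k, ∃ c : s → A, (∀ i, c i ∈ I ^ k) ∧ ∑ i, c i * g i = d k := fun k => by
    have h : d k ∈ I ^ k • Submodule.span A (Set.range g) := by
      rw [hg, smul_eq_mul, ← pow_add, add_comm]
      exact hd k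
    obtain ⟨a, ha, hsum⟩ := (Submodule.mem_ideal_smul_span_iff_exists_sum _ g (d k)).mp h
    refine ⟨fun i => a i, fun i => ha i, ?_⟩
    rw [← hsum, Finsupp.sum_fintype (h := fun i => zero_smul A (g i))]
    simp [smul_eq_mul]
  choose c hc hcd using hc
  have hsum : ∀ i, Summable fun k => c k i := fun i =>
    summable_of_tendsto (tendsto_of_mem_pow hbasis (n := 0) fun k => by simpa using hc k i)
  have hlim : Tendsto (fun N => ∑ k ∈ Finset.range N, d k) atTop (𝓝 (∑ i, (∑' k, c k i) * g i)) := by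
    have h : ∀ i, HasSum (fun k => c k i * g i) ((∑' k, c k i) * g i) := fun i => (hsum i).hasSum.mul_right _
    have h2 := hasSum_sum (s := Finset.univ) fun i _ => h i
    simp only [hcd] at h2
    exact h2.tendsto_sum_nat
  rw [tendsto_nhds_unique hx hlim, ← hg]
  exact Submodule.sum_mem _ fun i _ => Ideal.mul_mem_left _ _ (Submodule.subset_span ⟨i, rfl⟩)

/-- Closures of powers are powers, when one can approximate successively. -/
theorem closure_pow_le_pow {I J : Ideal A} (hfg : J.FG) (hJI : J ≤ I)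
    (hbasis : ∀ U ∈ 𝓝 (0 : A), ∃ n : ℕ, closure ((I ^ n : Ideal A) : Set A) ⊆ U)
    (hstep : ∀ m : ℕ, (I ^ m).closure ≤ J ^ m ⊔ (I ^ (m + 1)).closure) (n : ℕ) : (I ^ n).closure ≤ J ^ n := by
  intro x hx
  have hex : ∀ (k : ℕ) (y : A), ∃ d : A, y ∈ (I ^ (n + k)).closure →
      d ∈ J ^ (n + k) ∧ y - d ∈ (I ^ (n + k + 1)).closure := fun k y => by
    by_cases hy : y ∈ (I ^ (n + k)).closure
    · obtain ⟨a, ha, b, hb, rfl⟩ := Submodule.mem_sup.mp (hstep (n + k) hy)
      exact ⟨a, fun _ => ⟨ha, by simpa using hb⟩⟩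
    · exact ⟨0, fun h => absurd h hy⟩
  choose F hF using hex
  let r : ℕ → A := fun k => Nat.rec x (fun j y => y - F j y) k
  have hr : ∀ k, r k ∈ (I ^ (n + k)).closure := fun k => by
    induction k with
    | zero => exact hx
    | succ k ih => exact (hF k _ ih).2
  have hsum : ∀ N, ∑ k ∈ Finset.range N, F k (r k) = x - r N := fun N => by
    induction N with
    | zero => simp [r]
    | succ N ih =>
      rw [Finset.sum_range_succ, ih]
      show x - r N + F N (r N) = x - (r N - F N (r N))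
      abel
  refine mem_pow_of_series hfg (fun U hU => ?_) (fun k => F k (r k)) (fun k => (hF k _ (hr k)).1) ?_
  · obtain ⟨m, hm⟩ := hbasis U hU
    exact ⟨m, fun y hy => hm (subset_closure (Ideal.pow_right_mono hJI m hy))⟩
  · simp only [hsum]
    have h0 : Tendsto r atTop (𝓝 0) := tendsto_def.mpr fun U hU => by
      obtain ⟨m, hm⟩ := hbasis U hU
      exact eventually_atTop.mpr ⟨m, fun k hk =>
        hm (closure_mono' (Ideal.pow_le_pow_right (Nat.le_add_left k n |>.trans' hk)) (hr k))⟩
    simpa using tendsto_const_nhds.sub h0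

/-- Open closures of the powers of a finitely generated ideal make the ring adic. -/
theorem isAdic_of_closure {I : Ideal A} (hfg : I.FG)
    (hopen : ∀ n : ℕ, IsOpen (closure ((I ^ n : Ideal A) : Set A)))
    (hbasis : ∀ U ∈ 𝓝 (0 : A), ∃ n : ℕ, closure ((I ^ n : Ideal A) : Set A) ⊆ U) : IsAdic I := by
  have h : ∀ n, (I ^ n).closure = I ^ n := fun n => le_antisymm
    (closure_pow_le_pow hfg le_rfl hbasis (fun m =>
      closure_le_of_isOpen (isOpen_of_le (hopen (m + 1)) (le_sup_right (b := (I ^ (m + 1)).closure))) le_sup_left) n)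
    (le_closure _)
  refine isAdic_iff.mpr ⟨fun n => ?_, fun U hU => ?_⟩
  · have := hopen n
    rwa [← Ideal.coe_closure, h] at this
  · obtain ⟨n, hn⟩ := hbasis U hU
    exact ⟨n, Set.Subset.trans subset_closure hn⟩

theorem isUnit_one_add {x : A} (hx : IsTopologicallyNilpotent x) : IsUnit (1 + x) := by
  have hneg : IsTopologicallyNilpotent (-x) := by
    rw [← neg_one_mul]; exact hx.mul_left (-1)
  obtain ⟨S, hS⟩ := summable_of_tendsto hneg
  have h1 : Tendsto (fun N => (1 + x) * ∑ k ∈ Finset.range N, (-x) ^ k) atTop (𝓝 ((1 + x) * S)) :=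
    (hS.tendsto_sum_nat).const_mul _
  have h2 : Tendsto (fun N => (1 + x) * ∑ k ∈ Finset.range N, (-x) ^ k) atTop (𝓝 1) := by
    have he : ∀ N, (1 + x) * ∑ k ∈ Finset.range N, (-x) ^ k = 1 - (-x) ^ N := fun N => by
      rw [← mul_neg_geom_sum (-x) N, sub_neg_eq_add]
    simp only [he]
    simpa using tendsto_const_nhds.sub hneg
  exact .of_mul_eq_one _ (tendsto_nhds_unique h1 h2)

theorem le_jacobson {I : Ideal A} (hI : ∀ f ∈ I, IsTopologicallyNilpotent f) : I ≤ (⊥ : Ideal A).jacobson :=
  fun x hx => Ideal.mem_jacobson_bot.mpr fun y => by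
    rw [add_comm]
    exact isUnit_one_add (hI _ (I.mul_mem_right y hx))

omit [IsUniformAddGroup A] [CompleteSpace A] in
theorem eq_zero_of_forall_mem {x : A} (h : ∀ J : Ideal A, IsOpen (J : Set A) → x ∈ J) : x = 0 := by
  by_contra hne
  obtain ⟨J, hJ, hJU⟩ := exists_open_subset (isOpen_compl_singleton.mem_nhds (show (0 : A) ∈ ({x}ᶜ : Set A) from
    fun e => hne e.symm))
  exact hJU (h J hJ) rfl

/-- A ring complete for a linear topology is complete for finitely generated small ideals. -/
theorem isAdicComplete_of_small {I : Ideal A} (hfg : I.FG)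
    (hbasis : ∀ U ∈ 𝓝 (0 : A), ∃ n : ℕ, ((I ^ n : Ideal A) : Set A) ⊆ U) : IsAdicComplete I A where
  haus' x hx := eq_zero_of_forall_mem fun J hJ => by
    obtain ⟨n, hn⟩ := hbasis _ (hJ.mem_nhds J.zero_mem)
    have := hx n
    rw [SModEq.zero, smul_eq_mul, Ideal.mul_top] at this
    exact hn this
  prec' f hf := by
    have hd : ∀ k, f (k + 1) - f k ∈ I ^ k := fun k => by
      have := SModEq.sub_mem.mp (hf (Nat.le_succ k))
      rw [smul_eq_mul, Ideal.mul_top] at this
      exact (Ideal.neg_mem_iff _).mp (by simpa using this)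
    obtain ⟨S, hS⟩ := summable_of_tendsto (tendsto_of_mem_pow hbasis (n := 0) fun k => by simpa using hd k)
    refine ⟨f 0 + S, fun n => ?_⟩
    rw [SModEq.sub_mem, smul_eq_mul, Ideal.mul_top, ← neg_mem_iff, neg_sub]
    refine mem_pow_of_series hfg hbasis (fun k => f (n + k + 1) - f (n + k)) (fun k => hd (n + k)) ?_
    have h1 : Tendsto (fun N => ∑ k ∈ Finset.range (n + N), (f (k + 1) - f k)) atTop (𝓝 S) :=
      hS.tendsto_sum_nat.comp (tendsto_atTop_mono (fun N => Nat.le_add_left N n) tendsto_id)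
    simp only [Finset.sum_range_sub (fun k => f k)] at h1
    have h2 : ∀ N, ∑ k ∈ Finset.range N, (f (n + k + 1) - f (n + k)) = f (n + N) - f n := fun N =>
      Finset.sum_range_sub (fun k => f (n + k)) N
    simp only [h2]
    have := (h1.const_add (f 0)).sub_const (f n)
    simpa using this

end Groth.Agent.LinTopLib
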