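import Groth.Agent.LinTopLib.Taut
import Mathlib.Topology.Algebra.UniformRing
import Mathlib.Topology.Algebra.LinearTopology

/-!
# Completions of linearly topologised rings
-/

set_option autoImplicit false

universe u

open Filter Topology UniformSpace

namespace Groth.Agent.LinTopLib

variable (A : Type u) [CommRing A] [UniformSpace A] [IsUniformAddGroup A] [IsTopologicalRing A]

theorem closure_map_coe (K : Ideal A) :
    closure ((K.map (Completion.coeRingHom : A →+* Completion A) : Ideal (Completion A)) : Set (Completion A)) =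
      closure ((↑) '' (K : Set A)) := by
  refine subset_antisymm (closure_minimal ?_ isClosed_closure)
    (closure_mono fun x ⟨a, ha, hax⟩ => hax ▸ Ideal.mem_map_of_mem Completion.coeRingHom ha)
  intro x hx
  change x ∈ Ideal.span _ at hx
  induction hx using Submodule.span_induction with
  | mem y hy => exact subset_closure hy
  | zero => exact subset_closure ⟨0, K.zero_mem, Completion.coe_zero⟩
  | add y z _ _ hy hz =>
    refine map_mem_closure₂ continuous_add hy hz ?_
    rintro _ ⟨a, ha, rfl⟩ _ ⟨b, hb, rfl⟩
    exact ⟨a + b, K.add_mem ha hb, Completion.coe_add a b⟩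
  | smul b y _ hy =>
    refine map_mem_closure₂ continuous_mul (Completion.denseRange_coe b) hy ?_
    rintro _ ⟨a, rfl⟩ _ ⟨c, hc, rfl⟩
    exact ⟨a * c, K.mul_mem_left a hc, Completion.coe_mul a c⟩

theorem isOpen_closure_map_coe {K : Ideal A} (hK : IsOpen (K : Set A)) :
    IsOpen (closure ((K.map (Completion.coeRingHom : A →+* Completion A) : Ideal (Completion A)) : Set (Completion A))) := by
  rw [← Ideal.coe_closure]
  refine isOpen_of_mem_nhds (J := (K.map Completion.coeRingHom).closure) ?_
  rw [Ideal.coe_closure, closure_map_coe, ← Completion.coe_zero]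
  exact Completion.isDenseInducing_coe.closure_image_mem_nhds (hK.mem_nhds K.zero_mem)

variable [IsLinearTopology A A]

theorem exists_closure_map_subset {U : Set (Completion A)} (hU : U ∈ 𝓝 (0 : Completion A)) :
    ∃ K : Ideal A, IsOpen (K : Set A) ∧
      closure ((K.map (Completion.coeRingHom : A →+* Completion A) : Ideal (Completion A)) : Set (Completion A)) ⊆ U := by
  obtain ⟨C, ⟨hC, hCc⟩, hCU⟩ := (closed_nhds_basis (0 : Completion A)).mem_iff.mp hU
  have h0 : ((↑) : A → Completion A) ⁻¹' C ∈ 𝓝 (0 : A) :=
    (Completion.continuous_coe A).continuousAt.preimage_mem_nhds (by rwa [Completion.coe_zero])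
  obtain ⟨K, hK, hKC⟩ := exists_open_subset h0
  refine ⟨K, hK, Set.Subset.trans ?_ hCU⟩
  rw [closure_map_coe]
  exact closure_minimal (Set.image_subset_iff.mpr hKC) hCc

theorem isTaut_coe : LinTop.IsTaut (Completion.coeRingHom : A →+* Completion A) :=
  ⟨Completion.continuous_coe A, fun _ hK => isOpen_closure_map_coe A hK, fun _ hU => exists_closure_map_subset A hU⟩

theorem isLinearTopology_completion : IsLinearTopology (Completion A) (Completion A) :=
  isLinearTopology_iff_hasBasis_open_ideal.mpr ⟨fun U => ⟨fun hU => by
      obtain ⟨K, hK, hKU⟩ := exists_closure_map_subset A hU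
      exact ⟨(K.map Completion.coeRingHom).closure, isOpen_closure_map_coe A hK, hKU⟩,
    fun ⟨J, hJ, hJU⟩ => Filter.mem_of_superset (hJ.mem_nhds J.zero_mem) hJU⟩⟩

end Groth.Agent.LinTopLib
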