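import Groth.Agent.LinTopLib.OpenMapping
import Mathlib.Topology.Algebra.UniformMulAction
import Mathlib.Topology.Algebra.Module.Basic
import Mathlib.RingTheory.Finiteness.Ideal
import Mathlib.RingTheory.Ideal.Operations

/-!
# Completion of a module with an adic open submodule
-/

set_option autoImplicit false

universe u v

open Filter Topology UniformSpace

namespace Groth.Agent.LinTopLib

variable {R : Type u} [CommRing R] {M : Type v} [AddCommGroup M] [Module R M] [UniformSpace M]
  [IsUniformAddGroup M] [UniformContinuousConstSMul R M]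

variable (R M) in
/-- The completion map, linearly. -/
noncomputable def coeLM : M →ₗ[R] Completion M where
  toFun := (↑)
  map_add' := Completion.coe_add
  map_smul' := Completion.coe_smul

@[simp] theorem coeLM_apply (m : M) : coeLM R M m = (m : Completion M) := rfl

/-- The closure in the completion. -/
noncomputable def completionClosure (N : Submodule R M) : Submodule R (Completion M) :=
  (N.map (coeLM R M)).topologicalClosure

theorem coe_completionClosure (N : Submodule R M) :
    (completionClosure N : Set (Completion M)) = closure ((↑) '' (N : Set M)) := by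
  rw [completionClosure, Submodule.topologicalClosure_coe, Submodule.map_coe]
  rfl

theorem completionClosure_top : completionClosure (⊤ : Submodule R M) = ⊤ := by
  apply SetLike.coe_injective
  rw [coe_completionClosure, Submodule.top_coe, Submodule.top_coe, Set.image_univ, Completion.denseRange_coe.closure_range]

theorem smul_completionClosure_le (J : Ideal R) (N : Submodule R M) :
    J • completionClosure N ≤ completionClosure (J • N) := by
  refine Submodule.smul_le.mpr fun r hr y hy => ?_
  rw [← SetLike.mem_coe, coe_completionClosure] at hy ⊢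
  refine map_mem_closure (continuous_const_smul r) hy ?_
  rintro _ ⟨m, hm, rfl⟩
  exact ⟨r • m, Submodule.smul_mem_smul hr hm, Completion.coe_smul r m⟩

theorem coe_mem_smul_completionClosure {J : Ideal R} {N : Submodule R M} {m : M} (hm : m ∈ J • N) :
    (m : Completion M) ∈ J • completionClosure N := by
  have h : (J • N).map (coeLM R M) ≤ J • completionClosure N := by
    rw [Submodule.map_smul'']
    exact Submodule.smul_mono le_rfl (Submodule.le_topologicalClosure _)
  exact h ⟨m, hm, rfl⟩

variable (I : Ideal R) (M' : Submodule R M)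
  (hopen : ∀ n : ℕ, IsOpen ((I ^ n • M' : Submodule R M) : Set M))
  (hbasis : ∀ U ∈ 𝓝 (0 : M), ∃ n : ℕ, ((I ^ n • M' : Submodule R M) : Set M) ⊆ U)

include hopen in
theorem completionClosure_mem_nhds (n : ℕ) :
    (completionClosure (I ^ n • M') : Set (Completion M)) ∈ 𝓝 (0 : Completion M) := by
  rw [coe_completionClosure, ← Completion.coe_zero]
  exact Completion.isDenseInducing_coe.closure_image_mem_nhds ((hopen n).mem_nhds (Submodule.zero_mem _))

include hopen hbasis in
theorem hasBasis_completion : (𝓝 (0 : Completion M)).HasBasis (fun _ : ℕ => True)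
    (fun n => (completionClosure (I ^ n • M') : Set (Completion M))) := by
  have hb : (𝓝 (0 : M)).HasBasis (fun _ : ℕ => True) (fun n => ((I ^ n • M' : Submodule R M) : Set M)) :=
    ⟨fun U => ⟨fun hU => by
      obtain ⟨n, hn⟩ := hbasis U hU
      exact ⟨n, trivial, hn⟩, fun ⟨n, _, hn⟩ => mem_of_superset ((hopen n).mem_nhds (Submodule.zero_mem _)) hn⟩⟩
  have h := hb.hasBasis_of_isDenseInducing Completion.isDenseInducing_coe
  rw [Completion.coe_zero] at h
  exact h.congr (fun _ => Iff.rfl) (fun n _ => (coe_completionClosure _).symm)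

include hopen hbasis in
/-- The closure of `I ^ n M'` is `I ^ n` times the closure of `M'`. -/
theorem completionClosure_smul (hI : I.FG) (n : ℕ) :
    completionClosure (I ^ n • M') = I ^ n • completionClosure M' := by
  refine le_antisymm ?_ (smul_completionClosure_le _ _)
  obtain ⟨s, hs⟩ := hI.pow (n := n)
  haveI : NonarchimedeanAddGroup M := ⟨fun U hU => by
    obtain ⟨k, hk⟩ := hbasis U hU
    exact ⟨⟨(I ^ k • M').toAddSubgroup, hopen k⟩, hk⟩⟩
  haveI : NonarchimedeanAddGroup (s → Completion M) := ⟨fun U hU => by
    rw [nhds_pi, Filter.mem_pi'] at hU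
    obtain ⟨t, V, hV, hVU⟩ := hU
    choose W hW using fun i => NonarchimedeanAddGroup.is_nonarchimedean (V i) (hV i)
    refine ⟨⟨AddSubgroup.pi Set.univ fun i => (W i).toAddSubgroup, isOpen_set_pi Set.finite_univ fun i _ => (W i).isOpen⟩,
      fun z hz => hVU fun i _ => hW i (hz i trivial)⟩⟩
  have hcg : (𝓝 (0 : s → Completion M)).IsCountablyGenerated := by
    haveI := (hasBasis_completion I M' hopen hbasis).isCountablyGenerated
    rw [nhds_pi]
    exact inferInstance
  let f : (s → Completion M) →+ Completion M :=
    { toFun := fun z => ∑ i : s, (i : R) • z i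
      map_zero' := by simp
      map_add' := fun a b => by simp [smul_add, Finset.sum_add_distrib] }
  have hf : Continuous f := continuous_finsetSum _ fun i _ => (continuous_apply i).const_smul (i : R)
  have hsum : ∀ (N : Submodule R M) (m : M), m ∈ I ^ n • N →
      ∃ z : s → M, (∀ i, z i ∈ N) ∧ ∑ i : s, (i : R) • z i = m := fun N m hm => by
    rw [← hs] at hm
    change m ∈ Submodule.span R (s : Set R) • N at hm
    induction hm using Submodule.smul_induction_on' with
    | smul r hr x hx =>
      obtain ⟨c, hc⟩ := Submodule.mem_span_finset'.mp hr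
      refine ⟨fun i => c i • x, fun i => N.smul_mem _ hx, ?_⟩
      rw [← hc, Finset.sum_smul]
      exact Finset.sum_congr rfl fun i _ => by rw [smul_smul, smul_eq_mul, mul_comm]
    | add x _ y _ hx hy =>
      obtain ⟨a, ha, hax⟩ := hx
      obtain ⟨b, hb, hby⟩ := hy
      refine ⟨a + b, fun i => N.add_mem (ha i) (hb i), ?_⟩
      simp only [Pi.add_apply, smul_add, Finset.sum_add_distrib]
      exact congrArg₂ (· + ·) hax hby
  have hfapp : ∀ z : s → M, f (fun i => (z i : Completion M)) = ((∑ i : s, (i : R) • z i : M) : Completion M) :=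
    fun z => by
      show ∑ i : s, (i : R) • (z i : Completion M) = coeLM R M (∑ i : s, (i : R) • z i)
      simp only [map_sum, map_smul, coeLM_apply]
  have ho : IsOpenMap f := isOpenMap_of_closure hcg f hf fun V => by
    have hV := V.mem_nhds_zero
    rw [nhds_pi, Filter.mem_pi'] at hV
    obtain ⟨t, U, hU, hUV⟩ := hV
    choose k hk hkU using fun i => (hasBasis_completion I M' hopen hbasis).mem_iff.mp (hU i)
    let K := Finset.univ.sup k
    refine mem_of_superset (completionClosure_mem_nhds I M' hopen (n + K)) ?_
    rw [coe_completionClosure]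
    refine closure_mono ?_
    rintro _ ⟨m, hm, rfl⟩
    rw [SetLike.mem_coe, pow_add, ← smul_eq_mul, Submodule.smul_assoc] at hm
    obtain ⟨z, hz, hzm⟩ := hsum _ m hm
    refine ⟨fun i => (z i : Completion M), hUV fun i _ => hkU i ?_, (hfapp z).trans (by rw [hzm])⟩
    have : z i ∈ I ^ (k i) • M' := Submodule.smul_mono (Ideal.pow_le_pow_right (Finset.le_sup (Finset.mem_univ i))) le_rfl (hz i)
    rw [coe_completionClosure]
    exact subset_closure ⟨z i, this, rfl⟩
  let W : AddSubgroup (s → Completion M) := AddSubgroup.pi Set.univ fun _ => (completionClosure M').toAddSubgroup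
  have hW : IsOpen (W : Set (s → Completion M)) := isOpen_set_pi Set.finite_univ fun i _ =>
    AddSubgroup.isOpen_of_mem_nhds _ (g := 0) (by
      have := completionClosure_mem_nhds I M' hopen 0
      rwa [pow_zero, Ideal.one_eq_top, Submodule.top_smul] at this)
  have hfW : IsClosed (f '' (W : Set (s → Completion M))) := by
    rw [← AddSubgroup.coe_map]
    exact AddSubgroup.isClosed_of_isOpen _ (by rw [AddSubgroup.coe_map]; exact ho _ hW)
  intro y hy
  rw [← SetLike.mem_coe, coe_completionClosure] at hy
  have hsub : ((↑) '' ((I ^ n • M' : Submodule R M) : Set M) : Set (Completion M)) ⊆ f '' (W : Set (s → Completion M)) := by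
    rintro _ ⟨m, hm, rfl⟩
    obtain ⟨z, hz, hzm⟩ := hsum _ m hm
    refine ⟨fun i => (z i : Completion M), fun i _ => ?_, (hfapp z).trans (by rw [hzm])⟩
    exact Submodule.le_topologicalClosure _ ⟨z i, hz i, rfl⟩
  obtain ⟨z, hz, rfl⟩ := closure_minimal hsub hfW hy
  refine Submodule.sum_mem _ fun i _ => Submodule.smul_mem_smul ?_ (hz i trivial)
  rw [← hs]
  exact Submodule.subset_span i.2

end Groth.Agent.LinTopLib
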