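import Mathlib.Topology.Algebra.InfiniteSum.Nonarchimedean
import Mathlib.Topology.Algebra.Nonarchimedean.Basic
import Mathlib.Topology.Algebra.InfiniteSum.NatInt
import Mathlib.Topology.Algebra.Nonarchimedean.Completion
import Mathlib.Topology.Algebra.GroupCompletion

/-!
# An open mapping lemma for nonarchimedean groups
-/

set_option autoImplicit false

universe u v

open Filter Topology UniformSpace

namespace Groth.Agent.LinTopLib

variable {G : Type u} [AddCommGroup G] [UniformSpace G] [IsUniformAddGroup G] [CompleteSpace G]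
  [NonarchimedeanAddGroup G]
variable {H : Type v} [AddCommGroup H] [TopologicalSpace H] [IsTopologicalAddGroup H] [T2Space H]

/-- A continuous homomorphism whose images of open subgroups are dense in neighbourhoods is open. -/
theorem isOpenMap_of_closure (hG : (𝓝 (0 : G)).IsCountablyGenerated) (f : G →+ H) (hf : Continuous f)
    (hcl : ∀ V : OpenAddSubgroup G, closure (f '' (V : Set G)) ∈ 𝓝 (0 : H)) : IsOpenMap f := by
  refine IsTopologicalAddGroup.isOpenMap_iff_nhds_zero.mpr (Filter.le_map fun U hU => ?_)
  obtain ⟨V, hV⟩ := NonarchimedeanAddGroup.is_nonarchimedean U hU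
  obtain ⟨x, hx⟩ := (𝓝 (0 : G)).exists_antitone_basis
  have hW : ∀ n, ∃ W : OpenAddSubgroup G, (W : Set G) ⊆ x n :=
    fun n => NonarchimedeanAddGroup.is_nonarchimedean _ (hx.1.mem_of_mem trivial)
  choose W hW using hW
  obtain ⟨K, hK0, hKs⟩ : ∃ K : ℕ → OpenAddSubgroup G, K 0 = V ∧ ∀ m, K (m + 1) = K m ⊓ W m :=
    ⟨fun n => Nat.rec V (fun m S => S ⊓ W m) n, rfl, fun _ => rfl⟩
  have hsub : ∀ m, (K (m + 1) : Set G) ⊆ (K m : Set G) ∧ (K (m + 1) : Set G) ⊆ (W m : Set G) := fun m => by
    rw [hKs, OpenAddSubgroup.coe_inf]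
    exact ⟨Set.inter_subset_left, Set.inter_subset_right⟩
  have hKV : ∀ n, (K n : Set G) ⊆ (V : Set G) := fun n => by
    induction n with
    | zero => rw [hK0]
    | succ n ih => exact (hsub n).1.trans ih
  have hKanti : ∀ {m n : ℕ}, m ≤ n → (K n : Set G) ⊆ K m := fun {m n} h => by
    induction h with
    | refl => exact le_refl _
    | step _ ih => exact (hsub _).1.trans ih
  have hKsmall : ∀ U ∈ 𝓝 (0 : G), ∃ N, ∀ n ≥ N, (K n : Set G) ⊆ U := fun U hU => by
    obtain ⟨m, -, hm⟩ := hx.1.mem_iff.mp hU
    exact ⟨m + 1, fun n hn => ((hKanti hn).trans (hsub m).2).trans ((hW m).trans hm)⟩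
  refine mem_of_superset (hcl V) fun y hy => ?_
  suffices ∃ a ∈ (V : Set G), f a = y by
    obtain ⟨a, ha, rfl⟩ := this
    exact Set.image_mono hV ⟨a, ha, rfl⟩
  have hex : ∀ (k : ℕ) (z : H), ∃ a : G, z ∈ closure (f '' (K k : Set G)) →
      a ∈ K k ∧ z - f a ∈ closure (f '' (K (k + 1) : Set G)) := fun k z => by
    by_cases hz : z ∈ closure (f '' (K k : Set G))
    · have h0 : (fun w => z - w) ⁻¹' closure (f '' (K (k + 1) : Set G)) ∈ 𝓝 z :=
        (continuous_const.sub continuous_id).continuousAt.preimage_mem_nhds (by simpa using hcl _)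
      obtain ⟨_, hw, a, ha, rfl⟩ := mem_closure_iff_nhds.mp hz _ h0
      exact ⟨a, fun _ => ⟨ha, hw⟩⟩
    · exact ⟨0, fun h => absurd h hz⟩
  choose F hF using hex
  let r : ℕ → H := fun k => Nat.rec y (fun j z => z - f (F j z)) k
  have hr : ∀ k, r k ∈ closure (f '' (K k : Set G)) := fun k => by
    induction k with
    | zero => rw [hK0]; exact hy
    | succ k ih => exact (hF k _ ih).2
  have ha : ∀ k, F k (r k) ∈ K k := fun k => (hF k _ (hr k)).1
  obtain ⟨a, hS⟩ : Summable fun k => F k (r k) := by
    refine NonarchimedeanAddGroup.summable_of_tendsto_cofinite_zero ?_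
    rw [Nat.cofinite_eq_atTop, tendsto_def]
    intro U hU
    obtain ⟨N, hN⟩ := hKsmall U hU
    exact eventually_atTop.mpr ⟨N, fun n hn => hN n hn (ha n)⟩
  refine ⟨a, (V.isClosed).mem_of_tendsto hS.tendsto_sum_nat (Eventually.of_forall fun N =>
    sum_mem fun k _ => hKV k (ha k)), ?_⟩
  have h1 : Tendsto (fun N => f (∑ k ∈ Finset.range N, F k (r k))) atTop (𝓝 (f a)) :=
    (hf.tendsto a).comp hS.tendsto_sum_nat
  have h2 : ∀ N, f (∑ k ∈ Finset.range N, F k (r k)) = y - r N := fun N => by
    induction N with
    | zero => simp [r]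
    | succ N ih =>
      rw [Finset.sum_range_succ, map_add, ih]
      show y - r N + f (F N (r N)) = y - (r N - f (F N (r N)))
      abel
  simp only [h2] at h1
  refine tendsto_nhds_unique h1 ?_
  have h0 : Tendsto r atTop (𝓝 0) := (closed_nhds_basis (0 : H)).tendsto_right_iff.mpr fun U ⟨hU, hUc⟩ => by
    obtain ⟨N, hN⟩ := hKsmall (f ⁻¹' U) (hf.continuousAt.preimage_mem_nhds (by rwa [map_zero]))
    exact eventually_atTop.mpr ⟨N, fun n hn => closure_minimal (Set.image_subset_iff.mpr (hN n hn)) hUc (hr n)⟩
  simpa using tendsto_const_nhds.sub h0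

/-- A continuous homomorphism with dense image, images of open subgroups being dense in neighbourhoods. -/
theorem surjective_isOpenMap_of_dense (hG : (𝓝 (0 : G)).IsCountablyGenerated) (f : G →+ H) (hf : Continuous f)
    (hd : DenseRange f) (hcl : ∀ V : OpenAddSubgroup G, closure (f '' (V : Set G)) ∈ 𝓝 (0 : H)) :
    Function.Surjective f ∧ IsOpenMap f := by
  have ho := isOpenMap_of_closure hG f hf hcl
  refine ⟨Set.range_eq_univ.mp ?_, ho⟩
  have hr : IsOpen (f.range : Set H) := by rw [AddMonoidHom.coe_range]; exact ho.isOpen_range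
  have hc := AddSubgroup.isClosed_of_isOpen f.range hr
  rw [AddMonoidHom.coe_range] at hc
  rw [← hc.closure_eq, hd.closure_range]

section Completion

variable {M : Type u} [AddCommGroup M] [UniformSpace M] [IsUniformAddGroup M]
variable {Q : Type v} [AddCommGroup Q] [UniformSpace Q] [IsUniformAddGroup Q]

omit [IsUniformAddGroup M] in
theorem isCountablyGenerated_completion (h : (𝓝 (0 : M)).IsCountablyGenerated) :
    (𝓝 (0 : Completion M)).IsCountablyGenerated := by
  obtain ⟨x, hx⟩ := (𝓝 (0 : M)).exists_antitone_basis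
  have hb := hx.1.hasBasis_of_isDenseInducing Completion.isDenseInducing_coe
  rw [Completion.coe_zero] at hb
  exact HasCountableBasis.isCountablyGenerated ⟨hb, Set.to_countable _⟩

/-- Completing an open surjection gives an open surjection. -/
theorem completion_map_surjective_isOpenMap [NonarchimedeanAddGroup M] (h : (𝓝 (0 : M)).IsCountablyGenerated)
    (π : M →+ Q) (hc : Continuous π) (ho : IsOpenMap π) (hs : Function.Surjective π) :
    Function.Surjective (π.completion hc) ∧ IsOpenMap (π.completion hc) := by
  refine surjective_isOpenMap_of_dense (isCountablyGenerated_completion h) _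
    (AddMonoidHom.continuous_completion π hc) (Completion.denseRange_coe.mono ?_) fun V => ?_
  · rintro _ ⟨y, rfl⟩
    obtain ⟨m, rfl⟩ := hs y
    exact ⟨(m : Completion M), AddMonoidHom.completion_coe π hc m⟩
  · have h0 : ((↑) : M → Completion M) ⁻¹' (V : Set (Completion M)) ∈ 𝓝 (0 : M) :=
      (Completion.continuous_coe M).continuousAt.preimage_mem_nhds (by
        rw [Completion.coe_zero]; exact V.mem_nhds_zero)
    have h1 := ho.image_mem_nhds h0
    rw [map_zero] at h1
    rw [← Completion.coe_zero]
    refine mem_of_superset (Completion.isDenseInducing_coe.closure_image_mem_nhds h1) (closure_mono ?_)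
    rintro _ ⟨_, ⟨m, hm, rfl⟩, rfl⟩
    exact ⟨(m : Completion M), hm, AddMonoidHom.completion_coe π hc m⟩

end Completion

/-- A dense homomorphism into a separated group is a quotient map if images of open subgroups are nearly open. -/
theorem surjective_isOpenMap_completeSpace {Q : Type v} [AddCommGroup Q] [UniformSpace Q] [IsUniformAddGroup Q]
    [T2Space Q] (hG : (𝓝 (0 : G)).IsCountablyGenerated) (f : G →+ Q) (hf : Continuous f)
    (hd : DenseRange f) (hcl : ∀ V : OpenAddSubgroup G, closure (f '' (V : Set G)) ∈ 𝓝 (0 : Q)) :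
    Function.Surjective f ∧ IsOpenMap f ∧ CompleteSpace Q := by
  have hinj : Function.Injective ((↑) : Q → Completion Q) := Completion.coe_injective Q
  obtain ⟨hs, ho⟩ := surjective_isOpenMap_of_dense hG (Completion.toCompl.comp f)
    ((Completion.continuous_coe Q).comp hf)
    (Completion.denseRange_coe.comp hd (Completion.continuous_coe Q)) fun V => by
      have := Completion.isDenseInducing_coe.closure_image_mem_nhds (hcl V)
      rw [Completion.coe_zero] at this
      refine mem_of_superset this ((closure_mono (image_closure_subset_closure_image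
        (Completion.continuous_coe Q))).trans_eq ?_)
      rw [closure_closure, Set.image_image]
      rfl
  have hcs : Function.Surjective ((↑) : Q → Completion Q) := Function.Surjective.of_comp (g := f) hs
  refine ⟨fun y => ?_, fun U hU => ?_, ?_⟩
  · obtain ⟨x, hx⟩ := hs (y : Completion Q)
    exact ⟨x, hinj hx⟩
  · have := (ho U hU).preimage (Completion.continuous_coe Q)
    rwa [show (Completion.toCompl.comp f : G →+ Completion Q) '' U = ((↑) : Q → Completion Q) '' (f '' U) by
      rw [Set.image_image]; rfl, Set.preimage_image_eq _ hinj] at this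
  · rw [completeSpace_iff_isComplete_range (Completion.isUniformInducing_coe Q), hcs.range_eq]
    exact isComplete_univ

end Groth.Agent.LinTopLib
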