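import Groth.Agent.LinTopLib.Basic
import Mathlib.RingTheory.RingHom.FaithfullyFlat

/-!
# Taut homomorphisms
-/

set_option autoImplicit false

universe u v w

open Filter Topology

namespace Groth.Agent.LinTopLib

variable {A : Type u} [CommRing A] [TopologicalSpace A] [IsTopologicalRing A] [IsLinearTopology A A]
variable {B : Type v} [CommRing B] [TopologicalSpace B] [IsTopologicalRing B]

omit [IsLinearTopology A A] in
theorem exists_open_le {φ : A →+* B} (hφ : LinTop.IsTaut φ) {K : Ideal B} (hK : IsOpen (K : Set B)) :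
    ∃ I : Ideal A, IsOpen (I : Set A) ∧ (I.map φ).closure ≤ K := by
  obtain ⟨I, hI, h⟩ := hφ.2.2 _ (hK.mem_nhds K.zero_mem)
  exact ⟨I, hI, h⟩

theorem topNilp_of_closure_map [IsLinearTopology B B] {φ : A →+* B} (hφ : Continuous φ) {I : Ideal A}
    (hI : ∀ f ∈ I, IsTopologicallyNilpotent f) {g : B} (hg : g ∈ (I.map φ).closure) :
    IsTopologicallyNilpotent g := by
  refine isTopologicallyNilpotent_of_mem_closure (fun f hf => ?_) hg
  have hle : I.map φ ≤ topologicalNilradical B :=
    Ideal.map_le_iff_le_comap.mpr fun a ha => IsTopologicallyNilpotent.mem_topologicalNilradical_iff.mpr ((hI a ha).map hφ)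
  exact IsTopologicallyNilpotent.mem_topologicalNilradical_iff.mp (hle hf)

omit [IsLinearTopology A A] in
theorem preimage_le_of_flat {φ : A →+* B} (hφ : LinTop.IsTautFFlat φ) {I : Ideal A} (hI : IsOpen (I : Set A))
    {a : A} (ha : φ a ∈ (I.map φ).closure) : a ∈ I := by
  have hinj := (hφ.2 I hI).injective
  have h0 : LinTop.descentMap φ I (Ideal.Quotient.mk I a) = 0 := by
    rw [LinTop.descentMap, Ideal.quotientMap_mk, Ideal.Quotient.eq_zero_iff_mem]
    exact ha
  exact Ideal.Quotient.eq_zero_iff_mem.mp (hinj (h0.trans (map_zero _).symm))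

omit [IsLinearTopology A A] in
theorem le_of_map_le_closure {φ : A →+* B} (hφ : LinTop.IsTautFFlat φ) {I K : Ideal A}
    (hK : IsOpen (K : Set A)) (h : I.map φ ≤ (K.map φ).closure) : I ≤ K :=
  fun _ ha => preimage_le_of_flat hφ hK (h (Ideal.mem_map_of_mem φ ha))

end Groth.Agent.LinTopLib
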