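import Groth.Agent.LinTopLib.Taut
import Groth.Agent.LinTopLib.Complete
import Mathlib.RingTheory.Nakayama

/-!
# Weakly adic rings
-/

set_option autoImplicit false

universe u v

open Filter Topology

namespace Groth.Agent.LinTopLib

variable {A : Type u} [CommRing A] [TopologicalSpace A] [IsTopologicalRing A]

theorem isAdic_of_idealDef {I : Ideal A} (hA : LinTop.IsPreadic A) (hI : LinTop.IsIdealOfDefinition A I) :
    IsAdic I := by
  obtain ⟨J, hJ⟩ := hA
  refine isAdic_iff.mpr ⟨fun n => ?_, fun U hU => ?_⟩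
  · obtain ⟨m, hm, hle⟩ := exists_pow_le (isAdic_idealDef hJ) hI.1
    exact isOpen_of_le ((isAdic_iff.mp hJ).1 (m * n)) (by rw [pow_mul]; exact Ideal.pow_right_mono hle n)
  · obtain ⟨n, -, hn⟩ := hI.2 U hU
    exact ⟨n, hn⟩

variable [IsLinearTopology A A]

theorem idealDef_closure {I : Ideal A} (ho : IsOpen (closure (I : Set A)))
    (hb : ∀ U ∈ 𝓝 (0 : A), ∃ n : ℕ, closure ((I ^ n : Ideal A) : Set A) ⊆ U) :
    LinTop.IsIdealOfDefinition A I.closure := by
  refine ⟨ho, fun U hU => ?_⟩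
  obtain ⟨n, hn⟩ := hb U hU
  exact ⟨n + 1, Nat.succ_pos n, Set.Subset.trans (closure_pow_le I (n + 1))
    (Set.Subset.trans (closure_mono' (Ideal.pow_le_pow_right (Nat.le_succ n))) hn)⟩

theorem isOpen_closure_pow_of_weakly (hA : LinTop.IsWeaklyPreadic A) {J : Ideal A} (hJ : IsOpen (J : Set A))
    (n : ℕ) : IsOpen (closure ((J ^ n : Ideal A) : Set A)) := by
  obtain ⟨-, I, hIo, hIb⟩ := hA
  obtain ⟨m, hm⟩ := hIb _ (hJ.mem_nhds J.zero_mem)
  refine isOpen_closure_of_le (hIo (m * n)) ?_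
  rw [pow_mul]
  exact (Ideal.pow_right_mono (fun a ha => hm (subset_closure ha)) n).trans (le_closure _)

theorem closure_basis_of_idealDef {I : Ideal A} (hI : LinTop.IsIdealOfDefinition A I) :
    ∀ U ∈ 𝓝 (0 : A), ∃ n : ℕ, closure ((I ^ n : Ideal A) : Set A) ⊆ U := fun U hU => by
  obtain ⟨K, hK, hKU⟩ := exists_open_subset hU
  obtain ⟨n, -, hle⟩ := exists_pow_le hI hK
  exact ⟨n, Set.Subset.trans (closure_le_of_isOpen hK hle) hKU⟩

theorem isWeaklyPreadic_of_idealDef {I : Ideal A} (hI : LinTop.IsIdealOfDefinition A I)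
    (h : ∀ n : ℕ, 0 < n → IsOpen (closure ((I ^ n : Ideal A) : Set A))) : LinTop.IsWeaklyPreadic A :=
  ⟨‹IsLinearTopology A A›, I, fun n => by
    rcases n.eq_zero_or_pos with rfl | hn
    · simp
    · exact h n hn, closure_basis_of_idealDef hI⟩

omit [IsLinearTopology A A] in
theorem isWeaklyPreadic_of_isPreadic (hA : LinTop.IsPreadic A) : LinTop.IsWeaklyPreadic A := by
  obtain ⟨J, hJ⟩ := hA
  haveI := isLinearTopology_of_isAdic hJ
  exact isWeaklyPreadic_of_idealDef (isAdic_idealDef hJ) fun n _ =>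
    isOpen_of_le (I := J ^ n) (J := (J ^ n).closure) ((isAdic_iff.mp hJ).1 n) (le_closure _)

theorem isWeaklyPreadic_of_taut {B : Type v} [CommRing B] [TopologicalSpace B] [IsTopologicalRing B]
    [IsLinearTopology B B] {φ : A →+* B} (hφ : LinTop.IsTaut φ) (hA : LinTop.IsWeaklyPreadic A) :
    LinTop.IsWeaklyPreadic B := by
  obtain ⟨-, I, hIo, hIb⟩ := hA
  refine ⟨inferInstance, I.map φ, fun n => ?_, fun U hU => ?_⟩
  · rw [← Ideal.map_pow]
    refine isOpen_closure_of_le (I := ((I ^ n).closure).map φ) (hφ.2.1 _ (hIo n)) ?_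
    exact Ideal.map_le_iff_le_comap.mpr fun a ha => map_mem_closure hφ.1 ha fun b hb => Ideal.mem_map_of_mem φ hb
  · obtain ⟨K, hK, hKU⟩ := hφ.2.2 U hU
    obtain ⟨n, hn⟩ := hIb _ (hK.mem_nhds K.zero_mem)
    refine ⟨n, Set.Subset.trans ?_ hKU⟩
    rw [← Ideal.map_pow]
    exact closure_mono (Ideal.map_mono fun a ha => hn (subset_closure ha))

omit [IsLinearTopology A A] in
/-- A map out of an adic ring with open closures of extended powers is taut. -/
theorem isTaut_of_adic {B : Type v} [CommRing B] [TopologicalSpace B] [IsTopologicalRing B] [IsLinearTopology B B]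
    {φ : A →+* B} {J : Ideal A} (hJ : IsAdic J)
    (ho : ∀ n : ℕ, IsOpen (closure (((J ^ n).map φ : Ideal B) : Set B)))
    (hb : ∀ U ∈ 𝓝 (0 : B), ∃ n : ℕ, closure (((J ^ n).map φ : Ideal B) : Set B) ⊆ U) : LinTop.IsTaut φ := by
  obtain ⟨h1, h2⟩ := isAdic_iff.mp hJ
  refine ⟨continuous_of_continuousAt_zero φ ?_, fun K hK => ?_, fun U hU => ?_⟩
  · intro U hU
    rw [map_zero] at hU
    obtain ⟨n, hn⟩ := hb U hU
    exact Filter.mem_map.mpr (Filter.mem_of_superset ((h1 n).mem_nhds (Ideal.zero_mem _))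
      fun a ha => hn (subset_closure (Ideal.mem_map_of_mem φ ha)))
  · obtain ⟨n, hn⟩ := h2 _ (hK.mem_nhds K.zero_mem)
    exact isOpen_closure_of_le (ho n) ((Ideal.map_mono hn).trans (le_closure _))
  · obtain ⟨n, hn⟩ := hb U hU
    exact ⟨J ^ n, h1 n, hn⟩

theorem weaklyPreadic_tfae : List.TFAE [LinTop.IsWeaklyPreadic A,
      ∃ (A' : Type u) (_ : CommRing A') (_ : TopologicalSpace A') (_ : IsTopologicalRing A')
        (φ : A' →+* A), LinTop.IsPreadic A' ∧ LinTop.IsTaut φ,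
      LinTop.IsPreadmissible A ∧ ∃ I : Ideal A, LinTop.IsIdealOfDefinition A I ∧
        ∀ n : ℕ, 0 < n → IsOpen (closure ((I ^ n : Ideal A) : Set A)),
      LinTop.IsPreadmissible A ∧ ∀ I : Ideal A, LinTop.IsIdealOfDefinition A I →
        ∀ n : ℕ, 0 < n → IsOpen (closure ((I ^ n : Ideal A) : Set A))] := by
  tfae_have 1 → 2 := fun ⟨_, I, hIo, hIb⟩ => by
    refine ⟨A, inferInstance, I.adicTopology, (I.nonarchimedean).toIsTopologicalRing, RingHom.id A, ⟨I, rfl⟩, ?_⟩
    exact @isTaut_of_adic A _ I.adicTopology (I.nonarchimedean).toIsTopologicalRing A _ _ _ _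
      (RingHom.id A) I rfl (fun n => by rw [Ideal.map_id]; exact hIo n)
      (fun U hU => (hIb U hU).imp fun n hn => by rw [Ideal.map_id]; exact hn)
  tfae_have 2 → 1 := fun ⟨A', i₁, i₂, i₃, φ, hA', hφ⟩ => by
    obtain ⟨J, hJ⟩ := hA'
    haveI := @isLinearTopology_of_isAdic A' i₁ i₂ J hJ
    exact isWeaklyPreadic_of_taut hφ (isWeaklyPreadic_of_isPreadic ⟨J, hJ⟩)
  tfae_have 1 → 4 := fun hA => by
    obtain ⟨-, I, hIo, hIb⟩ := hA
    exact ⟨⟨inferInstance, I.closure, idealDef_closure (by simpa using hIo 1) hIb⟩,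
      fun J hJ n _ => isOpen_closure_pow_of_weakly ⟨inferInstance, I, hIo, hIb⟩ hJ.1 n⟩
  tfae_have 4 → 3 := fun ⟨h, hall⟩ => by
    obtain ⟨-, I, hI⟩ := id h
    exact ⟨h, I, hI, hall I hI⟩
  tfae_have 3 → 1 := fun ⟨_, I, hI, h⟩ => isWeaklyPreadic_of_idealDef hI h
  tfae_finish

section FFlat

variable {B : Type v} [CommRing B] [TopologicalSpace B] [IsTopologicalRing B] {φ : A →+* B}

theorem isOpen_closure_of_map (hφ : LinTop.IsTautFFlat φ) {I : Ideal A}
    (h : IsOpen (closure ((I.map φ : Ideal B) : Set B))) : IsOpen (closure (I : Set A)) := by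
  obtain ⟨K, hK, hle⟩ := exists_open_le hφ.1 (K := (I.map φ).closure) h
  refine isOpen_closure_of_le (I := K) ?_ fun a ha => mem_closure_iff_forall.mpr fun L hL => ?_
  · exact isOpen_of_le (I := K) (J := K.closure) hK (le_closure _)
  · refine le_of_map_le_closure hφ (isOpen_of_le hL le_sup_right) ?_ ha
    exact ((le_closure _).trans hle).trans (closure_mono' (Ideal.map_mono le_sup_left))

theorem isWeaklyPreadic_descent (hφ : LinTop.IsTautFFlat φ) (hB : LinTop.IsWeaklyPreadic B) :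
    LinTop.IsWeaklyPreadic A := by
  obtain ⟨hlin, J, hJo, hJb⟩ := hB
  haveI := hlin
  have hJ := idealDef_closure (by simpa using hJo 1) hJb
  obtain ⟨I, hI, hIJ⟩ := exists_open_le hφ.1 hJ.1
  have hId : LinTop.IsIdealOfDefinition A I := by
    refine ⟨hI, fun U hU => ?_⟩
    obtain ⟨K, hK, hKU⟩ := exists_open_subset hU
    obtain ⟨n, hn, hle⟩ := exists_pow_le hJ (K := (K.map φ).closure) (hφ.1.2.1 K hK)
    refine ⟨n, hn, Set.Subset.trans (le_of_map_le_closure hφ hK ?_) hKU⟩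
    rw [Ideal.map_pow]
    exact (Ideal.pow_right_mono ((le_closure _).trans hIJ) n).trans hle
  refine isWeaklyPreadic_of_idealDef hId fun n _ => isOpen_closure_of_map hφ ?_
  rw [Ideal.map_pow]
  have hop := isOpen_closure_pow_of_weakly (A := B) ⟨hlin, J, hJo, hJb⟩ (J := (I.map φ).closure) (hφ.1.2.1 I hI) n
  exact isOpen_closure_of_le hop (closure_pow_le _ n)

end FFlat

end Groth.Agent.LinTopLib
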